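import Groth.Agent.GrpdThick.Fp
import Groth.Agent.GrpdLib.InvGeneric
import Groth.Agent.GrpdLib.Pullback
import Groth.Agent.GrpdLib.Restrict
import Groth.Agent.GrpdLib.OrbitTop
import Groth.Agent.AffineNhd.Components
import Groth.Agent.S7464

/-!
# Invariant affine opens around orbits in dimension one
-/

set_option autoImplicit false
set_option backward.isDefEq.respectTransparency false
set_option backward.isDefEq.respectTransparency.types false
set_option maxHeartbeats 800000

universe u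

open CategoryTheory CategoryTheory.Limits AlgebraicGeometry TopologicalSpace Grpd

namespace Groth.Agent.GrpdThick

theorem lfp_of_noetherian {X Y : Scheme.{u}} (f : X ⟶ Y) [IsLocallyNoetherian Y] [LocallyOfFiniteType f] :
    LocallyOfFinitePresentation f := by
  rw [HasRingHomProperty.iff_appLE (P := @LocallyOfFinitePresentation)]
  intro U V e
  have hU : IsNoetherianRing Γ(Y, U) := IsLocallyNoetherian.component_noetherian U
  exact (RingHom.FinitePresentation.of_finiteType).1 (HasRingHomProperty.appLE @LocallyOfFiniteType f ‹_› U V e)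

/-- A point with local ring of dimension at most one has no chain of two generizations. -/
theorem eq_or_eq_of_dim_le_one {X : Scheme.{u}} {x y z : X} (hdim : ringKrullDim (X.presheaf.stalk x) ≤ 1)
    (hzy : z ⤳ y) (hyx : y ⤳ x) : z = y ∨ y = x := by
  by_contra h
  push Not at h
  let φ := X.fromSpecStalk x
  obtain ⟨pz, hpz⟩ : z ∈ Set.range φ := by rw [Scheme.range_fromSpecStalk]; exact hzy.trans hyx
  obtain ⟨py, hpy⟩ : y ∈ Set.range φ := by rw [Scheme.range_fromSpecStalk]; exact hyx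
  obtain ⟨px, hpx⟩ : x ∈ Set.range φ := by rw [Scheme.range_fromSpecStalk]; exact specializes_rfl
  have hlt : ∀ (a b : PrimeSpectrum (X.presheaf.stalk x)), φ a ⤳ φ b → φ a ≠ φ b → a < b := fun a b hab hne =>
    lt_of_le_of_ne ((PrimeSpectrum.le_iff_specializes a b).2 (φ.isEmbedding.isInducing.specializes_iff.1 hab))
      fun e => hne (by rw [e])
  have h1 : @LT.lt (PrimeSpectrum (X.presheaf.stalk x)) _ pz py :=
    hlt pz py (by rw [hpz, hpy]; exact hzy) (by rw [hpz, hpy]; exact h.1)
  have h2 : @LT.lt (PrimeSpectrum (X.presheaf.stalk x)) _ py px :=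
    hlt py px (by rw [hpx, hpy]; exact hyx) (by rw [hpx, hpy]; exact h.2)
  let l : LTSeries (PrimeSpectrum (X.presheaf.stalk x)) :=
    (((RelSeries.singleton _ px : LTSeries (PrimeSpectrum (X.presheaf.stalk x)))).cons py h2).cons pz h1
  have hl := (Order.LTSeries.length_le_krullDim l).trans hdim
  have h3 : l.length = 2 := rfl
  rw [h3] at hl
  exact absurd hl (by norm_num)

variable {S : Scheme.{u}} {G : GroupoidScheme S}

/-- A translate of a proper generization of a point whose orbit lies in dimension one is maximal. -/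
theorem translate_maximal [IsFinite G.s] [IsFinite G.t] (u : G.U)
    (hdim : ∀ r : G.R, G.s r = u → ringKrullDim (G.U.presheaf.stalk (G.t r)) ≤ 1)
    {x : G.U} {r₀ : G.R} (hr₀ : G.s r₀ = u) (hx : G.t r₀ = x) {y : G.U} (hyx : y ⤳ x) (hne : y ≠ x)
    (r : G.R) (hr : G.s r = y) (z : G.U) (hz : z ⤳ G.t r) : z = G.t r := by
  obtain ⟨r', hrr', hr'⟩ := G.s.isClosedMap.specializingMap (a := r) (b := x) (hr.symm ▸ hyx)
  have htt : G.t r ⤳ G.t r' := hrr'.map G.t.continuous
  obtain ⟨r₁, hr₁t, hr₁s⟩ := GrpdLib.exists_comp G r' r₀ (hr'.trans hx.symm)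
  have hd := hdim r₁ (hr₁s.trans hr₀)
  rw [hr₁t] at hd
  rcases eq_or_eq_of_dim_le_one hd hz htt with h | h
  · exact h
  exfalso
  obtain ⟨r'', hr''t, hr''s⟩ := GrpdLib.exists_inv G r'
  obtain ⟨a, hat, has⟩ := GrpdLib.exists_comp G r'' r (hr''s.trans h.symm)
  have hs' : G.s a = y := has.trans hr
  have ht' : G.t a = x := hat.trans (hr''t.trans hr')
  exact Groth.Agent.S7464.result S G a (by rw [hs', ht']; exact hne) (by rw [hs', ht']; exact hyx)

/-- Invariant affine neighbourhood inside an open subgroupoid of an affine scheme. -/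
theorem exists_invariant_affineOpen_of_core [IsFinite G.s] [IsFinite G.t] [IsLocallyNoetherian G.U]
    [G.U.IsSeparated] {A : Type u} [CommRing A] (j : G.U ⟶ Spec (CommRingCat.of A)) [IsOpenImmersion j]
    (O : Set G.U) (hO : O.Finite) (horb : ∀ r : G.R, G.s r ∈ O → G.t r ∈ O)
    (hsplit : O ⊆ (core G : Set G.U) ∨ Disjoint O (core G : Set G.U))
    (hgen : ∀ x ∈ O, ∀ y : G.U, y ⤳ x → y ≠ x → y ∈ core G) :
    ∃ W : G.U.Opens, IsAffineOpen W ∧ O ⊆ W ∧ GrpdLib.IsInv G W := by
  classical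
  haveI : LocallyOfFinitePresentation G.s := lfp_of_noetherian G.s
  -- an affine `W₁` around `O`, stable away from the core
  obtain ⟨fh, hW₁, hOW₁, hstab⟩ : ∃ fh : Γ(G.U, ⊤), IsAffineOpen (G.U.basicOpen fh) ∧ O ⊆ G.U.basicOpen fh ∧
      ∀ r : G.R, G.s r ∈ G.U.basicOpen fh → G.s r ∉ core G → G.t r ∈ G.U.basicOpen fh := by
    rcases hsplit with hc | hc
    · obtain ⟨f, hOf, hfc⟩ := GrpdLib.exists_basicOpen_of_finite (isAffineOpen_top (Spec (CommRingCat.of A)))
        (hO.image j) (j ''ᵁ core G) (fun _ _ => trivial) (by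
          rintro _ ⟨x, hx, rfl⟩; exact ⟨x, hc hx, rfl⟩)
      refine ⟨j.app ⊤ f, ?_, fun x hx => ?_, fun r hr hn => absurd ?_ hn⟩
      · rw [← Scheme.preimage_basicOpen]
        exact ((isAffineOpen_top _).basicOpen f).preimage_of_isOpenImmersion j
          (hfc.trans (j.image_le_opensRange (core G)))
      · rw [← Scheme.preimage_basicOpen]; exact hOf ⟨x, hx, rfl⟩
      · rw [← Scheme.preimage_basicOpen] at hr
        obtain ⟨y, hy, hjy⟩ := hfc hr
        rwa [← j.isOpenEmbedding.injective hjy]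
    · let Z : Closeds G.U := ⟨(core G : Set G.U)ᶜ, (core G).isOpen.isClosed_compl⟩
      let g : AffineNhd.red Z ⟶ G.U := AffineNhd.redι Z
      have hrg : Set.range g = (core G : Set G.U)ᶜ := AffineNhd.range_redι Z
      haveI : IsLocallyNoetherian (AffineNhd.red Z) := LocallyOfFiniteType.isLocallyNoetherian g
      haveI : IsFinite (GrpdLib.pullBackGrpd G g).s := by
        show IsFinite (pullback.snd (pullback.fst G.t g ≫ G.s) g)
        infer_instance
      haveI : LocallyOfFinitePresentation (GrpdLib.pullBackGrpd G g).s :=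
        lfp_of_noetherian (X := (GrpdLib.pullBackGrpd G g).R) (Y := AffineNhd.red Z) _
      obtain ⟨I, hI⟩ := (PrimeSpectrum.isClosed_iff_zeroLocus_ideal _).1
        (j.isOpenEmbedding.isOpen_range.isClosed_compl : IsClosed (Set.range j)ᶜ)
      obtain ⟨h, hhI, -, hsub, hinv⟩ := GrpdLib.exists_invariant_basicOpen (G := GrpdLib.pullBackGrpd G g)
        (g ⁻¹' O) (hO.preimage g.isClosedEmbedding.injective.injOn)
        (fun b hb => by
          show g (GrpdLib.pbT G g b) ∈ O
          rw [← Scheme.Hom.comp_apply, ← GrpdLib.pbMid_t, Scheme.Hom.comp_apply]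
          have hb' : g (GrpdLib.pbS G g b) ∈ O := hb
          rw [← Scheme.Hom.comp_apply, ← GrpdLib.pbMid_s, Scheme.Hom.comp_apply] at hb'
          exact horb _ hb')
        (fun x hx y hy => g.isClosedEmbedding.injective (by_contra fun hne => by
          have h1 : g y ∈ (core G : Set G.U)ᶜ := hrg ▸ ⟨y, rfl⟩
          exact h1 (hgen (g x) hx (g y) (hy.map g.continuous) hne)))
        A (g ≫ j) I
        (fun x hx => by
          have hx' : (g ≫ j) x ∈ (Set.range j)ᶜ := by rw [hI]; exact hx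
          exact hx' ⟨g x, rfl⟩)
        (by
          rw [← hI]
          have e : (Set.range j)ᶜ ∪ Set.range (g ≫ j) = (j '' (core G : Set G.U))ᶜ := by
            refine Set.ext fun p => ?_
            constructor
            · rintro (hp | ⟨z, rfl⟩) ⟨y, hy, hyp⟩
              · exact hp ⟨y, hyp⟩
              · have h1 : g z ∈ (core G : Set G.U)ᶜ := hrg ▸ ⟨z, rfl⟩
                exact h1 (j.isOpenEmbedding.injective hyp ▸ hy)
            · intro hp
              by_cases hpj : p ∈ Set.range j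
              · obtain ⟨y, rfl⟩ := hpj
                obtain ⟨z, rfl⟩ : y ∈ Set.range g := hrg ▸ fun hy => hp ⟨y, hy, rfl⟩
                exact Or.inr ⟨z, rfl⟩
              · exact Or.inl hpj
          exact e ▸ (j.isOpenEmbedding.isOpenMap _ (core G).isOpen).isClosed_compl)
      let fh : Γ(G.U, ⊤) := j.app ⊤ ((Scheme.ΓSpecIso _).inv h)
      have hfh : G.U.basicOpen fh = j ⁻¹ᵁ PrimeSpectrum.basicOpen h := by
        rw [← Scheme.preimage_basicOpen]
        congr 1
        exact (basicOpen_eq_of_affine' _).trans (by simp)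
      refine ⟨fh, ?_, fun x hx => ?_, fun r hr hn => ?_⟩
      · rw [hfh]
        refine (IsAffineOpen.Spec_basicOpen (R := CommRingCat.of A) h).preimage_of_isOpenImmersion j fun p hp => ?_
        by_contra hpj
        have hp' : p ∈ PrimeSpectrum.zeroLocus (I : Set A) := hI ▸ hpj
        exact hp (hp' hhI)
      · obtain ⟨z, rfl⟩ : x ∈ Set.range g := hrg ▸ fun hxc => Set.disjoint_left.1 hc hx hxc
        rw [hfh]
        exact hsub (show z ∈ g ⁻¹' O from hx)
      · obtain ⟨z₁, hz₁⟩ : G.s r ∈ Set.range g := hrg ▸ hn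
        obtain ⟨z₂, hz₂⟩ : G.t r ∈ Set.range g := by
          rw [hrg]; exact fun h => hn (((isInv_core G).mem_iff r).2 h)
        obtain ⟨a, ha₁, ha₂⟩ := Scheme.Pullback.exists_preimage_pullback r z₂ hz₂.symm
        obtain ⟨b, hb₁, hb₂⟩ := Scheme.Pullback.exists_preimage_pullback
          (f := GrpdLib.srcMap G g) (g := g) a z₁ (by
            show G.s (pullback.fst G.t g a) = g z₁
            rw [ha₁, hz₁])
        have hbs : GrpdLib.pbS G g b = z₁ := hb₂
        have hbt : GrpdLib.pbT G g b = z₂ := by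
          show pullback.snd G.t g (pullback.fst (GrpdLib.srcMap G g) g b) = z₂
          rw [hb₁, ha₂]
        rw [hfh] at hr ⊢
        rw [← hz₂]
        have h2 := (hinv.mem_iff b).1 (show (g ≫ j) (GrpdLib.pbS G g b) ∈ PrimeSpectrum.basicOpen h by
          rw [hbs, Scheme.Hom.comp_apply, hz₁]; exact hr)
        have h3 : (g ≫ j) (GrpdLib.pbT G g b) ∈ PrimeSpectrum.basicOpen h := h2
        rwa [hbt, Scheme.Hom.comp_apply] at h3
  -- its invariant core is affine
  let W₁ := G.U.basicOpen fh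
  let N₁ := GrpdLib.invCore G W₁
  refine ⟨N₁, ?_, fun x hx => GrpdLib.mem_invCore.2 fun r hr => hOW₁ (horb r (hr ▸ hx)),
    GrpdLib.isInv_invCore _⟩
  obtain ⟨J, -, hsupp, -, hfls, -⟩ := exists_thick G
  let ι' := J.subschemeι ≫ (core G).ι
  have hloc : ∀ x : G.U, x ∈ W₁ → ∃ E : G.U.Opens, x ∈ E ∧ IsAffineOpen E ∧ E ≤ W₁ ∧ IsAffineOpen (E ⊓ N₁) := by
    intro x hxW
    by_cases hxN : x ∈ N₁
    · obtain ⟨E, hE, hxE, hEle⟩ := exists_isAffineOpen_mem_and_subset (X := G.U) (x := x) (U := N₁) hxN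
      refine ⟨E, hxE, hE, fun y hy => GrpdLib.invCore_le _ (hEle hy), ?_⟩
      rw [show E ⊓ N₁ = E from le_antisymm inf_le_left fun y hy => ⟨hy, hEle hy⟩]
      exact hE
    have hxc : x ∈ core G := by
      by_contra hn
      exact hxN (GrpdLib.mem_invCore.2 fun r hr => hstab r (hr ▸ hxW) (hr ▸ hn))
    obtain ⟨E, hE, hxE, hEle⟩ := exists_isAffineOpen_mem_and_subset (X := G.U) (x := x) (U := W₁ ⊓ core G) ⟨hxW, hxc⟩
    refine ⟨E, hxE, hE, fun y hy => (hEle hy).1, ?_⟩
    let Ec : (core G : Scheme.{u}).Opens := (core G).ι ⁻¹ᵁ E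
    have hEc : IsAffineOpen Ec := hE.preimage_of_isOpenImmersion _ (by
      rw [Scheme.Opens.opensRange_ι]; exact fun y hy => (hEle hy).2)
    let E' : J.subscheme.Opens := J.subschemeι ⁻¹ᵁ Ec
    have hE' : IsAffineOpen E' := hEc.preimage J.subschemeι
    haveI := hfls.1
    haveI := hfls.2.1
    haveI := hfls.2.2
    let p := pullback.snd G.s ι'
    let b : Γ(pullback G.s ι', p ⁻¹ᵁ E') :=
      (pullback G.s ι').presheaf.map (homOfLE le_top).op ((pullback.fst G.s ι' ≫ G.t).app ⊤ fh)
    obtain ⟨n, hn⟩ := GrpdLib.exists_norm_basicOpen p hE' b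
    obtain ⟨n₀, hn₀⟩ := J.subschemeι.app_surjective Ec hEc n
    have hb : ∀ q, q ∈ (pullback G.s ι').basicOpen b ↔ p q ∈ E' ∧ G.t (pullback.fst G.s ι' q) ∈ W₁ := fun q => by
      rw [← SetLike.mem_coe, Scheme.basicOpen_res, ← Scheme.preimage_basicOpen]
      exact Iff.rfl
    have heq : E ⊓ N₁ = (core G).ι ''ᵁ (core G : Scheme.{u}).basicOpen n₀ := by
      ext y
      constructor
      · rintro ⟨hyE, hyN⟩
        let yc : (core G : Scheme.{u}) := ⟨y, (hEle hyE).2⟩
        obtain ⟨z, hz⟩ : yc ∈ Set.range J.subschemeι := by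
          rw [Scheme.IdealSheafData.range_subschemeι, hsupp]; trivial
        refine ⟨yc, ?_, rfl⟩
        rw [← hz]
        show z ∈ J.subschemeι ⁻¹ᵁ (core G : Scheme.{u}).basicOpen n₀
        rw [Scheme.preimage_basicOpen, hn₀, hn]
        have hzE : z ∈ E' := by
          show (core G).ι (J.subschemeι z) ∈ E
          rw [hz]; exact hyE
        refine ⟨hzE, fun q hq => (hb q).2 ⟨hq ▸ hzE, ?_⟩⟩
        refine GrpdLib.mem_invCore.1 hyN _ ?_
        rw [← Scheme.Hom.comp_apply, pullback.condition, Scheme.Hom.comp_apply, show pullback.snd G.s ι' q = z from hq,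
          Scheme.Hom.comp_apply, hz]
        rfl
      · rintro ⟨yc, hyc, rfl⟩
        obtain ⟨z, rfl⟩ : yc ∈ Set.range J.subschemeι := by
          rw [Scheme.IdealSheafData.range_subschemeι, hsupp]; trivial
        have hz : z ∈ J.subschemeι ⁻¹ᵁ (core G : Scheme.{u}).basicOpen n₀ := hyc
        rw [Scheme.preimage_basicOpen, hn₀, hn] at hz
        refine ⟨hz.1, GrpdLib.mem_invCore.2 fun r hr => ?_⟩
        obtain ⟨q, hq₁, hq₂⟩ := Scheme.Pullback.exists_preimage_pullback (f := G.s) (g := ι') r z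
          (hr.trans (Scheme.Hom.comp_apply _ _ _).symm)
        have := ((hb q).1 (hz.2 q hq₂)).2
        rwa [hq₁] at this
    rw [heq]
    exact (hEc.basicOpen n₀).image_of_isOpenImmersion (core G).ι
  have hle : N₁ ≤ W₁ := GrpdLib.invCore_le _
  haveI : IsAffine W₁.toScheme := hW₁
  haveI : IsAffineHom (G.U.homOfLE hle) := by
    refine isAffineHom_of_forall_exists_isAffineOpen _ fun x => ?_
    obtain ⟨E, hxE, hE, hEW, hEN⟩ := hloc x.1 x.2
    refine ⟨W₁.ι ⁻¹ᵁ E, hxE, hE.preimage_of_isOpenImmersion _ (by rw [Scheme.Opens.opensRange_ι]; exact hEW), ?_⟩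
    rw [← Scheme.Hom.comp_preimage, Scheme.homOfLE_ι]
    have h1 : N₁.ι ⁻¹ᵁ E = N₁.ι ⁻¹ᵁ (E ⊓ N₁) :=
      Opens.ext (Set.ext fun y => ⟨fun hy => ⟨hy, y.2⟩, fun hy => hy.1⟩)
    rw [h1]
    exact hEN.preimage_of_isOpenImmersion _ (by rw [Scheme.Opens.opensRange_ι]; exact inf_le_right)
  exact isAffine_of_isAffineHom (G.U.homOfLE hle)

end Groth.Agent.GrpdThick
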