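import Groth.Agent.GrpdThick.Strata
import Groth.Agent.MorLib.IdealFG2
import Mathlib.RingTheory.KrullDimension.Zero

/-!
# Finitely presented strata
-/

set_option autoImplicit false
set_option backward.isDefEq.respectTransparency false
set_option backward.isDefEq.respectTransparency.types false
set_option maxHeartbeats 800000

universe u

open CategoryTheory CategoryTheory.Limits AlgebraicGeometry TopologicalSpace Grpd

namespace Groth.Agent.GrpdThick

open MorLib.IdealFG in
theorem isFG_finSheaf {X Y : Scheme.{u}} (f : X ⟶ Y) [IsFinite f] [LocallyOfFinitePresentation f] (r : ℕ) :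
    IsFG (FittX.finSheaf f r) := by
  intro U
  rw [FittX.finSheaf_ideal]
  letI := (f.app U.1).hom.toAlgebra
  haveI : Module.Finite Γ(Y, U.1) Γ(X, f ⁻¹ᵁ U.1) := IsFinite.finite_app f U.1 U.2
  haveI : Algebra.FinitePresentation Γ(Y, U.1) Γ(X, f ⁻¹ᵁ U.1) := by
    have := f.finitePresentation_appLE U.2 (U.2.preimage f) le_rfl
    rwa [← Scheme.Hom.app_eq_appLE] at this
  haveI : Module.FinitePresentation Γ(Y, U.1) Γ(X, f ⁻¹ᵁ U.1) :=
    Module.FinitePresentation.of_finite_of_finitePresentation _ _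
  exact FittX.ideal_fg r

theorem exists_mul_pow_eq_zero {A : Type u} [CommRing A] (p : Ideal A) [p.IsPrime] (hmin : ∀ q : Ideal A, q.IsPrime → q ≤ p → q = p)
    (a : A) (ha : a ∈ p) : ∃ s ∉ p, IsNilpotent (s * a) := by
  have hp : p ∈ minimalPrimes A := ⟨⟨inferInstance, bot_le⟩, fun q hq hle => (hmin q hq.1 hle).ge⟩
  haveI : Ring.KrullDimLE 0 (Localization.AtPrime p) := .of_isLocalization _ hp _
  have h1 : IsNilpotent (algebraMap A (Localization.AtPrime p) a) := by
    rw [← mem_nilradical, Ring.KrullDimLE.nilradical_eq_maximalIdeal]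
    exact (IsLocalization.AtPrime.to_map_mem_maximal_iff (Localization.AtPrime p) p a).2 ha
  obtain ⟨n, hn⟩ := h1
  rw [← map_pow, IsLocalization.map_eq_zero_iff p.primeCompl] at hn
  obtain ⟨⟨s, hs⟩, hsn⟩ := hn
  refine ⟨s, hs, n + 1, ?_⟩
  rw [mul_pow, pow_succ s, pow_succ a]
  linear_combination (s ^ n * a) * hsn

open MorLib.IdealFG in
/-- A point without generizations of a closed set cut out by finitely many equations is interior. -/
theorem mem_interior_support {X : Scheme.{u}} {K : X.IdealSheafData} (hK : IsFG K) (x : X)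
    (hx : x ∈ (K.support : Set X)) (hmax : ∀ y : X, y ⤳ x → y = x) : x ∈ interior (K.support : Set X) := by
  obtain ⟨U, hU, hxU, -⟩ := exists_isAffineOpen_mem_and_subset (X := X) (x := x) (U := ⊤) trivial
  let p := hU.primeIdealOf ⟨x, hxU⟩
  have hmin : ∀ q : Ideal Γ(X, U), q.IsPrime → q ≤ p.asIdeal → q = p.asIdeal := fun q hq hle => by
    have h : (⟨q, hq⟩ : PrimeSpectrum Γ(X, U)) ⤳ p := (PrimeSpectrum.le_iff_specializes _ _).1 hle
    have h2 := hmax _ (hU.fromSpec_primeIdealOf ⟨x, hxU⟩ ▸ h.map hU.fromSpec.continuous)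
    exact congrArg PrimeSpectrum.asIdeal
      (hU.fromSpec.isOpenEmbedding.injective (h2.trans (hU.fromSpec_primeIdealOf ⟨x, hxU⟩).symm))
  rw [SetLike.mem_coe, Scheme.IdealSheafData.mem_support_iff_of_mem (U := ⟨U, hU⟩) hxU, Scheme.mem_zeroLocus_iff] at hx
  have hKp : K.ideal ⟨U, hU⟩ ≤ p.asIdeal := fun a ha =>
    by_contra fun hn => hx a ha ((GrpdLib.mem_basicOpen_iff_notMem hU a ⟨x, hxU⟩).2 hn)
  obtain ⟨t, ht⟩ := hK ⟨U, hU⟩
  have hsep : ∀ a : t, ∃ s ∉ p.asIdeal, IsNilpotent (s * (a : Γ(X, U))) := fun a =>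
    exists_mul_pow_eq_zero p.asIdeal hmin a.1 (hKp (ht ▸ Ideal.subset_span a.2))
  choose s hs hnil using hsep
  let D := X.basicOpen (∏ a, s a)
  refine mem_interior.2 ⟨D, fun y hy => ?_, D.2, (GrpdLib.mem_basicOpen_iff_notMem hU _ ⟨x, hxU⟩).2 fun h => ?_⟩
  · have hyU : y ∈ U := X.basicOpen_le _ hy
    rw [SetLike.mem_coe, Scheme.IdealSheafData.mem_support_iff_of_mem (U := ⟨U, hU⟩) hyU, Scheme.mem_zeroLocus_iff]
    intro a ha hya
    have hq := (GrpdLib.mem_basicOpen_iff_notMem hU a ⟨y, hyU⟩).1 hya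
    have hprod := (GrpdLib.mem_basicOpen_iff_notMem hU _ ⟨y, hyU⟩).1 hy
    refine hq ((ht.ge.trans (Ideal.span_le.2 fun b hb => ?_)) ha)
    have h1 : s ⟨b, hb⟩ * b ∈ (hU.primeIdealOf ⟨y, hyU⟩).asIdeal := by
      obtain ⟨n, hn⟩ := hnil ⟨b, hb⟩
      exact (hU.primeIdealOf ⟨y, hyU⟩).isPrime.mem_of_pow_mem n (hn ▸ Ideal.zero_mem _)
    refine ((hU.primeIdealOf ⟨y, hyU⟩).isPrime.mem_or_mem h1).resolve_left fun h2 => hprod ?_
    exact Ideal.mem_of_dvd _ (Finset.dvd_prod_of_mem _ (Finset.mem_univ _)) h2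
  · obtain ⟨a, -, ha⟩ := (Ideal.IsPrime.prod_mem_iff).1 h
    exact hs a ha

variable {S : Scheme.{u}} (G : GroupoidScheme S) [IsFinite G.s] [LocallyOfFinitePresentation G.s]

theorem mem_core (x : G.U) (hx : ∀ r : G.R, G.s r = x → ∀ y : G.U, y ⤳ G.t r → y = G.t r) : x ∈ core G := by
  refine GrpdLib.mem_invCore.2 fun r hr => ?_
  obtain ⟨j, hj⟩ := exists_mem_stratum G (G.t r)
  refine Opens.mem_iSup.2 ⟨j, mem_interior.2 ⟨interior ((FittX.finSheaf G.s j).support : Set G.U) ∩
    ((FittX.finSheaf G.s (j + 1)).support : Set G.U)ᶜ, ?_, ?_,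
    mem_interior_support (isFG_finSheaf G.s j) _ hj.1 (hx r hr), hj.2⟩⟩
  · exact fun z hz => ⟨interior_subset hz.1, hz.2⟩
  · exact isOpen_interior.inter (FittX.finSheaf G.s (j + 1)).support.2.isOpen_compl

theorem lfp_thick (W' : (core G : Scheme.{u}).IdealSheafData)
    (h : ∀ r, W'.comap (piece G r).ι = (FittX.finSheaf G.s r).comap ((piece G r).ι ≫ (core G).ι)) :
    LocallyOfFinitePresentation W'.subschemeι := by
  have hsup : iSup (piece G) = ⊤ := top_le_iff.1 fun z _ => Opens.mem_iSup.2 (exists_mem_piece G z)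
  rw [IsZariskiLocalAtTarget.iff_of_iSup_eq_top (P := @LocallyOfFinitePresentation) (piece G) hsup]
  intro r
  have h1 : LocallyOfFinitePresentation (W'.comap (piece G r).ι).subschemeι := by
    rw [h r]
    exact MorLib.IdealFG.lfp_subschemeι (MorLib.IdealFG.isFG_comap (isFG_finSheaf G.s r) _)
  have hb := (isPullback_morphismRestrict W'.subschemeι (piece G r)).flip
  have h2 : LocallyOfFinitePresentation (pullback.fst (piece G r).ι W'.subschemeι) := by
    rw [← W'.comapIso_inv_subschemeι]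
    infer_instance
  rw [← hb.flip.isoPullback_hom_fst]
  infer_instance

end Groth.Agent.GrpdThick
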