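import Groth.Agent.GrpdThick.Fp
import Groth.Agent.GrpdLib.InvGeneric
import Groth.Agent.GrpdLib.Restrict
import Groth.Agent.GenNhd.Basic

/-!
# Invariant affine neighbourhoods of finitely many generic orbits
-/

set_option autoImplicit false
set_option backward.isDefEq.respectTransparency false
set_option backward.isDefEq.respectTransparency.types false
set_option maxHeartbeats 800000

universe u

open CategoryTheory CategoryTheory.Limits AlgebraicGeometry TopologicalSpace Grpd

namespace Groth.Agent.GrpdThick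

theorem closure_mem_irreducibleComponents {X : Scheme.{u}} (x : X) (hmax : ∀ y : X, y ⤳ x → y = x) :
    closure ({x} : Set X) ∈ irreducibleComponents (X : Type u) := by
  refine ⟨isIrreducible_singleton.closure, fun Z hZ hle => ?_⟩
  have hz : IsClosed (closure Z) := isClosed_closure
  let η := (hZ.closure).genericPoint
  have hη : closure ({η} : Set X) = closure Z := hZ.closure.closure_genericPoint hz
  have hx : x ∈ closure ({η} : Set X) := hη ▸ subset_closure (hle (subset_closure rfl))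
  have := hmax η (specializes_iff_mem_closure.2 hx)
  intro z hzZ
  rw [← this, hη]
  exact subset_closure hzZ

variable {S : Scheme.{u}} (G : GroupoidScheme S) [IsFinite G.s] [LocallyOfFinitePresentation G.s]

theorem exists_affine_inv (O : Set G.U) (hO : O.Finite) (horb : ∀ r : G.R, G.s r ∈ O → G.t r ∈ O)
    (hmax : ∀ x ∈ O, ∀ y : G.U, y ⤳ x → y = x) (D : G.U.Opens) (hD : IsAffineOpen D) (hOD : O ⊆ D)
    (E : G.U.Opens) (hOE : O ⊆ E) :
    ∃ V : G.U.Opens, IsAffineOpen V ∧ O ⊆ V ∧ GrpdLib.IsInv G V ∧ V ≤ E := by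
  let N := GrpdLib.invCore G (D ⊓ E)
  have hN : GrpdLib.IsInv G N := GrpdLib.isInv_invCore _
  have hON : O ⊆ N := fun x hx => GrpdLib.mem_invCore.2 fun r hr =>
    ⟨hOD (horb r (hr ▸ hx)), hOE (horb r (hr ▸ hx))⟩
  have hND : N ≤ D := (GrpdLib.invCore_le _).trans inf_le_left
  haveI : IsFinite (GrpdLib.restrict G N hN).s :=
    (IsZariskiLocalAtTarget.restrict (P := @IsFinite) ‹_› N : IsFinite (G.s ∣_ N))
  haveI : LocallyOfFinitePresentation (GrpdLib.restrict G N hN).s :=
    (IsZariskiLocalAtTarget.restrict (P := @LocallyOfFinitePresentation) ‹_› N :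
      LocallyOfFinitePresentation (G.s ∣_ N))
  haveI : IsAffine D.toScheme := hD
  let j : N.toScheme ⟶ Spec Γ(G.U, D) := G.U.homOfLE hND ≫ hD.isoSpec.hom
  obtain ⟨I, hI⟩ := (PrimeSpectrum.isClosed_iff_zeroLocus_ideal _).1
    (j.isOpenEmbedding.isOpen_range.isClosed_compl : IsClosed (Set.range j)ᶜ)
  let O' : Set N.toScheme := N.ι ⁻¹' O
  obtain ⟨h, -, haff, hsub, hinv⟩ := GrpdLib.exists_invariant_basicOpen (G := GrpdLib.restrict G N hN) O'
    (hO.preimage N.ι.isOpenEmbedding.injective.injOn)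
    (fun r hr => by
      show N.ι (GrpdLib.resT G N hN r) ∈ O
      rw [← Scheme.Hom.comp_apply, GrpdLib.resT_ι, Scheme.Hom.comp_apply]
      refine horb _ ?_
      have hr' : N.ι (GrpdLib.resS G N r) ∈ O := hr
      rwa [← Scheme.Hom.comp_apply, GrpdLib.resS_ι, Scheme.Hom.comp_apply] at hr')
    (fun x hx y hy => N.ι.isOpenEmbedding.injective (hmax _ hx _ (hy.map N.ι.continuous)))
    Γ(G.U, D) j I (fun x hx => by
      have hx' : j x ∈ (Set.range j)ᶜ := by rw [hI]; exact hx
      exact hx' ⟨x, rfl⟩)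
    (by
      rw [← hI]
      convert isClosed_univ
      exact Set.eq_univ_of_forall fun y => (em (y ∈ Set.range j)).symm)
  refine ⟨N.ι ''ᵁ (j ⁻¹ᵁ PrimeSpectrum.basicOpen h), haff.image_of_isOpenImmersion N.ι,
    fun x hx => ⟨⟨x, hON hx⟩, hsub (show (⟨x, hON hx⟩ : N.toScheme) ∈ O' from hx), rfl⟩,
    GrpdLib.isInv_of_mem fun r hr => ?_, fun x ⟨z, _, hz⟩ => hz ▸ (GrpdLib.invCore_le _ z.2).2⟩
  obtain ⟨z, hz, hzr⟩ := hr
  have hr' : r ∈ G.s ⁻¹ᵁ N := show G.s r ∈ N from hzr ▸ z.2
  let r' : (G.s ⁻¹ᵁ N).toScheme := ⟨r, hr'⟩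
  have hs' : GrpdLib.resS G N r' = z := by
    refine N.ι.isOpenEmbedding.injective ?_
    rw [← Scheme.Hom.comp_apply, GrpdLib.resS_ι, Scheme.Hom.comp_apply]
    exact hzr.symm
  refine ⟨GrpdLib.resT G N hN r', ?_, ?_⟩
  · exact ((hinv : GrpdLib.IsInv (GrpdLib.restrict G N hN) _).mem_iff r').1 (show GrpdLib.resS G N r' ∈ _ from hs' ▸ hz)
  · show N.ι (GrpdLib.resT G N hN r') = G.t r
    rw [← Scheme.Hom.comp_apply, GrpdLib.resT_ι, Scheme.Hom.comp_apply]
    rfl

theorem exists_affine_core [QuasiSeparatedSpace G.U] (m : ℕ) (u : Fin m → G.U)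
    (hu : ∀ i (r : G.R), G.s r = u i → ∀ x : G.U, x ⤳ G.t r → x = G.t r) :
    ∃ V : G.U.Opens, IsAffineOpen V ∧ (∀ i, u i ∈ V) ∧ GrpdLib.IsInv G V ∧ V ≤ core G := by
  classical
  rcases m with _ | m
  · exact ⟨⊥, isAffineOpen_bot _, fun i => i.elim0, rfl, bot_le⟩
  let O : Set G.U := G.t '' (G.s ⁻¹' Set.range u)
  have hO : O.Finite :=
    ((Set.finite_range u).preimage' fun x _ => G.s.finite_preimage_singleton x).image _
  have hmax : ∀ x ∈ O, ∀ y : G.U, y ⤳ x → y = x := by
    rintro x ⟨r, ⟨i, hi⟩, rfl⟩ y hy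
    exact hu i r hi.symm y hy
  have horb : ∀ r : G.R, G.s r ∈ O → G.t r ∈ O := by
    rintro r ⟨r', ⟨i, hi⟩, e⟩
    obtain ⟨r'', h₁, h₂⟩ := GrpdLib.exists_comp G r r' e.symm
    exact ⟨r'', ⟨i, hi.trans h₂.symm⟩, h₁⟩
  have huO : ∀ i, u i ∈ O := fun i => by
    refine ⟨G.e (u i), ⟨i, ?_⟩, ?_⟩
    · rw [← Scheme.Hom.comp_apply, G.e_s]; rfl
    · rw [← Scheme.Hom.comp_apply, G.e_t]; rfl
  obtain ⟨D, hD, -, hOD⟩ := GenNhd.exists_affine_containing (fun i => (hO.toFinset.equivFin.symm i).1)
    (fun i => closure_mem_irreducibleComponents _ (hmax _ (hO.mem_toFinset.1 (hO.toFinset.equivFin.symm i).2)))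
    (u 0)
  have hOcore : O ⊆ core G := fun x hx => mem_core G x fun r hr y hy => hmax _ (horb r (hr ▸ hx)) y hy
  obtain ⟨V, hV, hOV, hinv, hle⟩ := exists_affine_inv G O hO horb hmax D hD (fun x hx => by
    have := hOD (hO.toFinset.equivFin ⟨x, hO.mem_toFinset.2 hx⟩)
    simpa using this) (core G) hOcore
  exact ⟨V, hV, fun i => hOV (huO i), hinv, hle⟩

/-- Restriction of the thickened core to a smaller invariant open. -/
theorem exists_restrict [IsFinite G.t] (V : G.U.Opens) (hV : GrpdLib.IsInv G V) (hle : V ≤ core G) :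
    ∃ V' : (V : Scheme.{u}).IdealSheafData, V'.support = ⊤ ∧ LocallyOfFinitePresentation V'.subschemeι ∧
      (∃ φ : pullback G.s (V'.subschemeι ≫ V.ι) ≅ pullback G.t (V'.subschemeι ≫ V.ι),
        φ.hom ≫ pullback.fst G.t (V'.subschemeι ≫ V.ι) = pullback.fst G.s (V'.subschemeι ≫ V.ι)) ∧
      Mor2.IsFinLocFree (pullback.snd G.s (V'.subschemeι ≫ V.ι)) ∧
      Mor2.IsFinLocFree (pullback.snd G.t (V'.subschemeι ≫ V.ι)) := by
  obtain ⟨W', h0, hsupp, ⟨φ, hφ⟩, hs, ht⟩ := exists_thick G
  have := lfp_thick G W' h0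
  let k := G.U.homOfLE hle
  let V' := W'.comap k
  let a := W'.subschemeι ≫ (core G).ι
  let b := V'.subschemeι ≫ V.ι
  let q : V'.subscheme ⟶ W'.subscheme := (W'.comapIso k).hom ≫ pullback.snd k W'.subschemeι
  have hq : q ≫ a = b := by
    simp only [q, a, b, Category.assoc, ← pullback.condition_assoc]
    rw [Scheme.IdealSheafData.comapIso_hom_fst_assoc, Scheme.homOfLE_ι]
  haveI : IsImmersion a := inferInstanceAs (IsImmersion (W'.subschemeι ≫ (core G).ι))
  haveI : IsImmersion b := inferInstanceAs (IsImmersion (V'.subschemeι ≫ V.ι))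
  have hfac : ∀ {T : Scheme.{u}} (x : T ⟶ G.U) (l : T ⟶ W'.subscheme), l ≫ a = x → Set.range x ⊆ V →
      ∃ l' : T ⟶ V'.subscheme, l' ≫ b = x := by
    intro T x l hl hx
    let xV := IsOpenImmersion.lift V.ι x (by rwa [Scheme.Opens.range_ι])
    have hxV : xV ≫ V.ι = x := IsOpenImmersion.lift_fac _ _ _
    have hw : xV ≫ k = l ≫ W'.subschemeι := by
      rw [← cancel_mono (core G).ι, Category.assoc, Category.assoc, Scheme.homOfLE_ι, hxV]
      exact hl.symm
    refine ⟨pullback.lift xV l hw ≫ (W'.comapIso k).inv, ?_⟩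
    simp only [b, Category.assoc]
    rw [W'.comapIso_inv_subschemeι_assoc, pullback.lift_fst_assoc, hxV]
  have hrb : Set.range b ⊆ V := by
    rintro _ ⟨z, rfl⟩
    exact (V'.subschemeι z).2
  have hst : ∃ l : pullback G.s b ⟶ V'.subscheme, l ≫ b = pullback.fst G.s b ≫ G.t := by
    let y : pullback G.s b ⟶ pullback G.s a := pullback.lift (pullback.fst G.s b) (pullback.snd G.s b ≫ q)
      (by rw [Category.assoc, hq, pullback.condition])
    refine hfac _ (y ≫ φ.hom ≫ pullback.snd G.t a) ?_ ?_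
    · rw [Category.assoc, Category.assoc, ← pullback.condition, reassoc_of% hφ]
      exact pullback.lift_fst_assoc _ _ _ _
    · rintro _ ⟨z, rfl⟩
      refine (hV.mem_iff (pullback.fst G.s b z)).1 ?_
      rw [← Scheme.Hom.comp_apply, pullback.condition, Scheme.Hom.comp_apply]
      exact hrb ⟨_, rfl⟩
  have hts : ∃ l : pullback G.t b ⟶ V'.subscheme, l ≫ b = pullback.fst G.t b ≫ G.s := by
    let y : pullback G.t b ⟶ pullback G.t a := pullback.lift (pullback.fst G.t b) (pullback.snd G.t b ≫ q)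
      (by rw [Category.assoc, hq, pullback.condition])
    have hφ' : φ.inv ≫ pullback.fst G.s a = pullback.fst G.t a := by rw [Iso.inv_comp_eq, hφ]
    refine hfac _ (y ≫ φ.inv ≫ pullback.snd G.s a) ?_ ?_
    · rw [Category.assoc, Category.assoc, ← pullback.condition, reassoc_of% hφ']
      exact pullback.lift_fst_assoc _ _ _ _
    · rintro _ ⟨z, rfl⟩
      refine (hV.mem_iff (pullback.fst G.t b z)).2 ?_
      rw [← Scheme.Hom.comp_apply, pullback.condition, Scheme.Hom.comp_apply]
      exact hrb ⟨_, rfl⟩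
  obtain ⟨l, hl⟩ := hst
  obtain ⟨l', hl'⟩ := hts
  haveI : Mono (pullback.fst G.s b) := inferInstance
  haveI : Mono (pullback.fst G.t b) := inferInstance
  let F : pullback G.s b ⟶ pullback G.t b := pullback.lift (pullback.fst G.s b) l hl.symm
  let F' : pullback G.t b ⟶ pullback G.s b := pullback.lift (pullback.fst G.t b) l' hl'.symm
  have hF : F ≫ pullback.fst G.t b = pullback.fst G.s b := pullback.lift_fst _ _ _
  have hF' : F' ≫ pullback.fst G.s b = pullback.fst G.t b := pullback.lift_fst _ _ _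
  refine ⟨V', ?_, ?_, ⟨⟨F, F',
    by rw [← cancel_mono (pullback.fst G.s b), Category.assoc, hF', hF, Category.id_comp],
    by rw [← cancel_mono (pullback.fst G.t b), Category.assoc, hF, hF', Category.id_comp]⟩, hF⟩, ?_, ?_⟩
  · refine SetLike.coe_injective (Set.eq_univ_of_forall fun x => ?_)
    rw [Scheme.IdealSheafData.support_comap, hsupp]
    trivial
  · show LocallyOfFinitePresentation (W'.comap k).subschemeι
    rw [← W'.comapIso_hom_fst k]
    infer_instance
  all_goals
    first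
    | (obtain ⟨h1, h2, h3⟩ := hs
       have hb : IsPullback (pullback.lift (pullback.fst G.s b) (pullback.snd G.s b ≫ q)
          (by rw [Category.assoc, hq, pullback.condition])) (pullback.snd G.s b) (pullback.snd G.s a) q := by
         refine IsPullback.of_right ?_ (pullback.lift_snd _ _ _) (IsPullback.of_hasPullback G.s a)
         rw [pullback.lift_fst, hq]
         exact IsPullback.of_hasPullback G.s b
       exact ⟨MorphismProperty.of_isPullback hb h1, MorphismProperty.of_isPullback hb h2,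
         MorphismProperty.of_isPullback hb h3⟩)
    | (obtain ⟨h1, h2, h3⟩ := ht
       have hb : IsPullback (pullback.lift (pullback.fst G.t b) (pullback.snd G.t b ≫ q)
          (by rw [Category.assoc, hq, pullback.condition])) (pullback.snd G.t b) (pullback.snd G.t a) q := by
         refine IsPullback.of_right ?_ (pullback.lift_snd _ _ _) (IsPullback.of_hasPullback G.t a)
         rw [pullback.lift_fst, hq]
         exact IsPullback.of_hasPullback G.t b
       exact ⟨MorphismProperty.of_isPullback hb h1, MorphismProperty.of_isPullback hb h2,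
         MorphismProperty.of_isPullback hb h3⟩)

end Groth.Agent.GrpdThick
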