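import Groth.Agent.FittX.Finite
import Mathlib.AlgebraicGeometry.IdealSheaf.Functorial

/-!
# Gluing ideal sheaves on a disjoint open cover
-/

set_option autoImplicit false
set_option backward.isDefEq.respectTransparency false
set_option backward.isDefEq.respectTransparency.types false

universe u

open CategoryTheory AlgebraicGeometry TopologicalSpace

namespace Groth.Agent.GrpdThick

variable {X : Scheme.{u}}

/-- Ideal sheaves agreeing on an open cover are equal. -/
theorem ideal_ext_of_cover {ι : Type*} (V : ι → X.Opens) (hV : ∀ x, ∃ i, x ∈ V i) {A B : X.IdealSheafData}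
    (h : ∀ i, A.comap (V i).ι = B.comap (V i).ι) : A = B := by
  refine FittX.eq_of_affine_cover fun x => ?_
  obtain ⟨i, hi⟩ := hV x
  obtain ⟨U, hU, hxU, hUV⟩ := exists_isAffineOpen_mem_and_subset (X := X) (x := x) (U := V i) hi
  refine ⟨⟨U, hU⟩, hxU, ?_⟩
  have hpre : IsAffineOpen ((V i).ι ⁻¹ᵁ U) :=
    hU.preimage_of_isOpenImmersion (V i).ι (by rw [Scheme.Opens.opensRange_ι]; exact hUV)
  have e := congrArg (fun K : (V i : Scheme.{u}).IdealSheafData => K.ideal ⟨_, hpre⟩) (h i)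
  simp only [Scheme.IdealSheafData.ideal_comap_of_isOpenImmersion] at e
  have e' := congrArg (Ideal.comap ((V i).ι.appIso ((V i).ι ⁻¹ᵁ U)).hom.hom) e
  simp only [Ideal.comap_comap, ← CommRingCat.hom_comp, Iso.hom_inv_id, CommRingCat.hom_id, Ideal.comap_id] at e'
  have hsub : (⟨(V i).ι ''ᵁ ((V i).ι ⁻¹ᵁ U), hpre.image_of_isOpenImmersion _⟩ : X.affineOpens) = ⟨U, hU⟩ :=
    Subtype.ext (show (V i).ι ''ᵁ ((V i).ι ⁻¹ᵁ U) = U by
      rw [Scheme.Hom.image_preimage_eq_opensRange_inf, Scheme.Opens.opensRange_ι]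
      exact inf_eq_right.2 hUV)
  have key : ∀ W W' : X.affineOpens, W = W' → A.ideal W = B.ideal W → A.ideal W' = B.ideal W' := by
    rintro W _ rfl e; exact e
  exact key _ _ hsub e'

theorem comap_inf_of_isOpenImmersion {Y : Scheme.{u}} (f : Y ⟶ X) [IsOpenImmersion f] (A B : X.IdealSheafData) :
    (A ⊓ B).comap f = A.comap f ⊓ B.comap f := by
  apply Scheme.IdealSheafData.ext
  funext U
  simp only [Scheme.IdealSheafData.ideal_inf, Pi.inf_apply, Scheme.IdealSheafData.ideal_comap_of_isOpenImmersion]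
  exact Ideal.comap_inf _ _ _

/-- Gluing along a cover by disjoint opens. -/
theorem exists_glue (V : ℕ → X.Opens) (hdisj : ∀ i j, i ≠ j → ∀ x, x ∈ V i → x ∉ V j)
    (hcov : ∀ x, ∃ i, x ∈ V i) (K : ℕ → X.IdealSheafData) :
    ∃ J : X.IdealSheafData, ∀ i, J.comap (V i).ι = (K i).comap (V i).ι := by
  let C : ℕ → X.Opens := fun i => ⨆ (j : ℕ) (_ : j ≠ i), V j
  have hC : ∀ i x, x ∈ C i ↔ x ∉ V i := fun i x => by
    simp only [C, TopologicalSpace.Opens.mem_iSup]
    refine ⟨fun ⟨j, hj, hx⟩ => hdisj j i hj x hx, fun h => ?_⟩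
    obtain ⟨j, hj⟩ := hcov x
    exact ⟨j, fun e => h (e ▸ hj), hj⟩
  have hcl : ∀ i, IsClosed (Set.range (C i).ι) := fun i => by
    rw [Scheme.Opens.range_ι, show (C i : Set X) = (V i : Set X)ᶜ from Set.ext fun x => hC i x]
    exact (V i).isOpen.isClosed_compl
  haveI : ∀ i, IsClosedImmersion (C i).ι := fun i => IsClosedImmersion.of_isPreimmersion _ (hcl i)
  refine ⟨⨆ i, K i ⊓ (C i).ι.ker, fun i => ?_⟩
  have hbot : ∀ j, j ≠ i → ((C j).ι.ker).comap (V i).ι = ⊥ := fun j hj => by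
    have hle : V i ≤ C j := fun x hx => (hC j x).2 (hdisj i j hj.symm x hx)
    rw [eq_bot_iff, ← Scheme.IdealSheafData.le_map_iff_comap_le, Scheme.IdealSheafData.map_bot,
      ← X.homOfLE_ι hle]
    exact Scheme.Hom.le_ker_comp _ _
  have htop : ((C i).ι.ker).comap (V i).ι = ⊤ := by
    rw [← Scheme.IdealSheafData.support_eq_bot_iff, Scheme.IdealSheafData.support_comap]
    refine SetLike.coe_injective (Set.eq_empty_of_forall_notMem fun z hz => ?_)
    have hz' : (V i).ι z ∈ ((C i).ι.ker.support : Set X) := hz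
    rw [Scheme.Hom.support_ker] at hz'
    rw [(hcl i).closure_eq, Scheme.Opens.range_ι] at hz'
    exact (hC i _).1 hz' z.2
  rw [(Scheme.IdealSheafData.map_gc (V i).ι).l_iSup]
  refine le_antisymm (iSup_le fun j => ?_) (le_iSup_of_le i ?_)
  · rw [comap_inf_of_isOpenImmersion]
    rcases eq_or_ne j i with rfl | hj
    · exact inf_le_left
    · rw [hbot j hj, inf_bot_eq]
      exact bot_le
  · rw [comap_inf_of_isOpenImmersion, htop, inf_top_eq]

end Groth.Agent.GrpdThick
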