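import Groth.Agent.GrpdThick.Glue
import Groth.Agent.GrpdLib.InvOpen
import Groth.Agent.GrpdLib.FitStrat
import Groth.Agent.GrpdLib.DegDecomp

/-!
# The thickened invariant open of a finite groupoid
-/

set_option autoImplicit false
set_option backward.isDefEq.respectTransparency false
set_option backward.isDefEq.respectTransparency.types false
set_option maxHeartbeats 800000

universe u

open CategoryTheory CategoryTheory.Limits AlgebraicGeometry TopologicalSpace Grpd

namespace Groth.Agent.GrpdThick

variable {S : Scheme.{u}} (G : GroupoidScheme S) [IsFinite G.s]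

/-- The `r`-th stratum of the Fitting stratification of the source map. -/
def stratum (r : ℕ) : Set G.U :=
  ((FittX.finSheaf G.s r).support : Set G.U) ∩ ((FittX.finSheaf G.s (r + 1)).support : Set G.U)ᶜ

/-- Its interior. -/
def stratumInt (r : ℕ) : G.U.Opens := ⟨interior (stratum G r), isOpen_interior⟩

/-- The points all whose translates are interior to their strata. -/
def core : G.U.Opens := GrpdLib.invCore G (⨆ r, stratumInt G r)

theorem support_antitone {k l : ℕ} (h : k ≤ l) :
    ((FittX.finSheaf G.s l).support : Set G.U) ⊆ (FittX.finSheaf G.s k).support :=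
  Scheme.IdealSheafData.support_antitone (FittX.finSheaf_mono G.s h)

theorem mem_support_s_iff_t (r : ℕ) (x : G.R) :
    G.s x ∈ ((FittX.finSheaf G.s r).support : Set G.U) ↔ G.t x ∈ ((FittX.finSheaf G.s r).support : Set G.U) := by
  have h := congrArg (fun I : G.R.IdealSheafData => (I.support : Set G.R)) (GrpdLib.finSheaf_comap_s_eq_t G r)
  simp only [Scheme.IdealSheafData.support_comap] at h
  exact Set.ext_iff.1 h x

theorem mem_stratum_s_iff_t (r : ℕ) (x : G.R) : G.s x ∈ stratum G r ↔ G.t x ∈ stratum G r :=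
  and_congr (mem_support_s_iff_t G r x) (not_congr (mem_support_s_iff_t G (r + 1) x))

theorem stratum_unique {i j : ℕ} {x : G.U} (hi : x ∈ stratum G i) (hj : x ∈ stratum G j) : i = j := by
  rcases lt_trichotomy i j with h | h | h
  · exact absurd (support_antitone G h hj.1) hi.2
  · exact h
  · exact absurd (support_antitone G h hi.1) hj.2

theorem exists_mem_stratum (x : G.U) : ∃ r, x ∈ stratum G r := by
  classical
  have h := FittX.exists_finSheaf_not_mem_support G.s x
  obtain ⟨r, hr⟩ : ∃ r, Nat.find h = r + 1 := Nat.exists_eq_succ_of_ne_zero fun h0 => by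
    have h1 := Nat.find_spec h
    rw [h0, FittX.finSheaf_zero_of_section G.s G.e G.e_s, Scheme.IdealSheafData.support_bot] at h1
    exact h1 trivial
  exact ⟨r, of_not_not (fun hn => Nat.find_min h (by omega) hn), hr ▸ Nat.find_spec h⟩

theorem isInv_core : GrpdLib.IsInv G (core G) := GrpdLib.isInv_invCore _

/-- Every orbit meets the closure of the core. -/
theorem exists_closure (x : G.U) : ∃ r : G.R, G.t r = x ∧ G.s r ∈ closure (core G : Set G.U) := by
  classical
  by_contra hne
  push Not at hne
  let N : G.U.Opens := GrpdLib.invCore G ⟨(closure (core G : Set G.U))ᶜ, isClosed_closure.isOpen_compl⟩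
  have hxN : x ∈ N := GrpdLib.mem_invCore.2 fun r hr => by
    have h := hne (G.i r) (by rw [← Scheme.Hom.comp_apply, G.i_t]; exact hr)
    rwa [← Scheme.Hom.comp_apply, G.i_s] at h
  have hN : GrpdLib.IsInv G N := GrpdLib.isInv_invCore _
  have hr : ∃ r, ∃ y ∈ N, y ∈ stratum G r := ⟨_, x, hxN, (exists_mem_stratum G x).choose_spec⟩
  obtain ⟨y, hyN, hy⟩ := Nat.find_spec hr
  let M : G.U.Opens :=
    ⟨(N : Set G.U) ∩ ((FittX.finSheaf G.s (Nat.find hr + 1)).support : Set G.U)ᶜ,
      N.2.inter (FittX.finSheaf G.s (Nat.find hr + 1)).support.2.isOpen_compl⟩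
  have hM : ∀ z ∈ M, z ∈ stratum G (Nat.find hr) := fun z hz => by
    obtain ⟨j, hj⟩ := exists_mem_stratum G z
    have h1 : Nat.find hr ≤ j := Nat.find_le ⟨z, hz.1, hj⟩
    rcases eq_or_lt_of_le h1 with e | e
    · exact e ▸ hj
    · exact absurd (support_antitone G e hj.1) hz.2
  have hyW : y ∈ core G := GrpdLib.mem_invCore.2 fun r hr' => by
    subst hr'
    refine Opens.mem_iSup.2 ⟨Nat.find hr, ?_⟩
    refine mem_interior.2 ⟨M, hM, M.2, (hN.mem_iff r).1 hyN, ?_⟩
    exact fun h => hy.2 ((mem_support_s_iff_t G _ r).2 h)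
  have h2 := GrpdLib.invCore_le _ hyN
  exact h2 (subset_closure hyW)

/-- The pieces of the core. -/
def piece (r : ℕ) : (core G : Scheme.{u}).Opens := (core G).ι ⁻¹ᵁ stratumInt G r

theorem exists_mem_piece (x : (core G : Scheme.{u})) : ∃ r, x ∈ piece G r :=
  (Opens.mem_iSup.1 (GrpdLib.invCore_le _ x.2)).imp fun _ h => h

theorem piece_disjoint (i j : ℕ) (h : i ≠ j) (x : (core G : Scheme.{u})) (hi : x ∈ piece G i) : x ∉ piece G j :=
  fun hj => h (stratum_unique G (interior_subset hi) (interior_subset hj))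

/-- The thickened core. -/
theorem exists_thick [IsFinite G.t] :
    ∃ W' : (core G : Scheme.{u}).IdealSheafData,
      (∀ r, W'.comap (piece G r).ι = (FittX.finSheaf G.s r).comap ((piece G r).ι ≫ (core G).ι)) ∧
      W'.support = ⊤ ∧
      (∃ φ : pullback G.s (W'.subschemeι ≫ (core G).ι) ≅ pullback G.t (W'.subschemeι ≫ (core G).ι),
        φ.hom ≫ pullback.fst G.t (W'.subschemeι ≫ (core G).ι) = pullback.fst G.s (W'.subschemeι ≫ (core G).ι)) ∧
      Mor2.IsFinLocFree (pullback.snd G.s (W'.subschemeι ≫ (core G).ι)) ∧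
      Mor2.IsFinLocFree (pullback.snd G.t (W'.subschemeι ≫ (core G).ι)) := by
  let W := core G
  obtain ⟨J, hJ⟩ := exists_glue (piece G) (piece_disjoint G) (exists_mem_piece G)
    fun r => (FittX.finSheaf G.s r).comap W.ι
  have hJ' : ∀ r, J.comap (piece G r).ι = (FittX.finSheaf G.s r).comap ((piece G r).ι ≫ W.ι) := fun r => by
    rw [hJ r, Scheme.IdealSheafData.comap_comp]
  refine ⟨J, hJ', ?_, ?_, ?_⟩
  · refine SetLike.coe_injective (Set.eq_univ_of_forall fun x => ?_)
    obtain ⟨r, hr⟩ := exists_mem_piece G x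
    have h : (⟨x, hr⟩ : piece G r) ∈ ((J.comap (piece G r).ι).support : Set ↥(piece G r).toScheme) := by
      rw [hJ' r, Scheme.IdealSheafData.support_comap]
      exact (interior_subset hr).1
    rwa [Scheme.IdealSheafData.support_comap] at h
  · have hinv : GrpdLib.IsInv G W := isInv_core G
    let WR : G.R.Opens := G.s ⁻¹ᵁ W
    let sW : (WR : Scheme.{u}) ⟶ W := G.s ∣_ W
    let tW : (WR : Scheme.{u}) ⟶ W := G.t.resLE W WR (le_of_eq hinv)
    have hsW : sW ≫ W.ι = WR.ι ≫ G.s := morphismRestrict_ι _ _
    have htW : tW ≫ W.ι = WR.ι ≫ G.t := Scheme.Hom.resLE_comp_ι _ _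
    have hpt : ∀ r (z : WR.toScheme), sW z ∈ piece G r → tW z ∈ piece G r := fun r z hz => by
      obtain ⟨j, hj⟩ := exists_mem_piece G (tW z)
      have h1 : G.s (WR.ι z) ∈ stratum G r := by
        rw [← Scheme.Hom.comp_apply, ← hsW]; exact interior_subset hz
      have h2 : G.t (WR.ι z) ∈ stratum G j := by
        rw [← Scheme.Hom.comp_apply, ← htW]; exact interior_subset hj
      obtain rfl := stratum_unique G ((mem_stratum_s_iff_t G r _).1 h1) h2
      exact hj
    have heq : J.comap sW = J.comap tW := by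
      refine ideal_ext_of_cover (fun r => sW ⁻¹ᵁ piece G r) (fun z => exists_mem_piece G (sW z)) fun r => ?_
      let O := sW ⁻¹ᵁ piece G r
      have hs1 : O.ι ≫ sW = sW.resLE (piece G r) O le_rfl ≫ (piece G r).ι := (Scheme.Hom.resLE_comp_ι _ _).symm
      have ht1 : O.ι ≫ tW = tW.resLE (piece G r) O (hpt r) ≫ (piece G r).ι := (Scheme.Hom.resLE_comp_ι _ _).symm
      rw [← Scheme.IdealSheafData.comap_comp, ← Scheme.IdealSheafData.comap_comp, hs1, ht1,
        Scheme.IdealSheafData.comap_comp, Scheme.IdealSheafData.comap_comp, hJ',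
        ← Scheme.IdealSheafData.comap_comp, ← Scheme.IdealSheafData.comap_comp, ← reassoc_of% hs1,
        ← reassoc_of% ht1, hsW, htW]
      simp only [Scheme.IdealSheafData.comap_comp]
      exact congrArg (fun I : G.R.IdealSheafData => (I.comap WR.ι).comap O.ι) (GrpdLib.finSheaf_comap_s_eq_t G r)
    obtain ⟨φ, hφ⟩ := GrpdLib.exists_iso_of_comap_eq sW tW J heq
    have hs2 : IsPullback WR.ι sW G.s W.ι := (isPullback_morphismRestrict G.s W).flip
    have ht2 : IsPullback WR.ι tW G.t W.ι := by
      refine (IsOpenImmersion.isPullback tW WR.ι W.ι G.t htW.symm ?_).flip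
      rw [Scheme.Opens.opensRange_ι, Scheme.Opens.opensRange_ι]
      exact hinv.symm
    let es := ((IsPullback.of_hasPullback sW J.subschemeι).flip.paste_vert hs2.flip).flip.isoPullback
    let et := ((IsPullback.of_hasPullback tW J.subschemeι).flip.paste_vert ht2.flip).flip.isoPullback
    refine ⟨es.symm ≪≫ φ ≪≫ et, ?_⟩
    rw [Iso.trans_hom, Iso.trans_hom, Category.assoc, Category.assoc, Iso.symm_hom,
      IsPullback.isoPullback_hom_fst, reassoc_of% hφ, Iso.inv_comp_eq, IsPullback.isoPullback_hom_fst]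
  · let ι' := J.subschemeι ≫ W.ι
    let O : ℕ → (J.subscheme).Opens := fun r => J.subschemeι ⁻¹ᵁ piece G r
    have hO : ∀ z : J.subscheme, ∃ r, z ∈ O r := fun z => exists_mem_piece G (J.subschemeι z)
    have hsup : iSup O = ⊤ := top_le_iff.1 fun z _ => Opens.mem_iSup.2 (hO z)
    have hkey : ∀ r, Mor2.IsFinLocFree (pullback.snd G.s ((O r).ι ≫ ι')) := fun r => by
      let Z := FittX.finSheaf G.s r
      let μ := (O r).ι ≫ ι'
      have hn : (O r).ι ≫ J.subschemeι = (J.subschemeι ∣_ piece G r) ≫ (piece G r).ι := (morphismRestrict_ι _ _).symm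
      have hμ : Z.comap μ = ⊥ := by
        show Z.comap ((O r).ι ≫ J.subschemeι ≫ W.ι) = ⊥
        rw [reassoc_of% hn, Scheme.IdealSheafData.comap_comp, ← hJ', ← Scheme.IdealSheafData.comap_comp, ← hn,
          Scheme.IdealSheafData.comap_comp]
        rw [show J.comap J.subschemeι = ⊥ from eq_bot_iff.2 ((Scheme.IdealSheafData.map_gc _).l_le (by
          rw [Scheme.IdealSheafData.map_bot, Scheme.IdealSheafData.ker_subschemeι])),
          Scheme.IdealSheafData.comap_bot]
      have hle : Z ≤ μ.ker := by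
        rw [← Scheme.IdealSheafData.map_bot, Scheme.IdealSheafData.le_map_iff_comap_le]
        exact hμ.le
      let q := IsClosedImmersion.lift Z.subschemeι μ (by simpa using hle)
      have hq : q ≫ Z.subschemeι = μ := IsClosedImmersion.lift_fac _ _ _
      let C := Z.subschemeι ⁻¹ᵁ (FittX.finSheaf G.s (r + 1)).support.compl
      have hrange : Set.range q ⊆ Set.range C.ι := by
        rintro _ ⟨z, rfl⟩
        rw [Scheme.Opens.range_ι]
        show Z.subschemeι (q z) ∈ ((FittX.finSheaf G.s (r + 1)).support : Set G.U)ᶜ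
        rw [← Scheme.Hom.comp_apply, hq]
        exact (interior_subset (s := stratum G r) (z.2 : J.subschemeι ((O r).ι z) ∈ piece G r)).2
      let q' := IsOpenImmersion.lift C.ι q hrange
      have hq' : q' ≫ C.ι ≫ Z.subschemeι = μ := by rw [IsOpenImmersion.lift_fac_assoc, hq]
      have hstrat : Mor2.IsFinLocFree (pullback.snd G.s (C.ι ≫ Z.subschemeι)) := by
        refine (FittX.isFinLocFreeOfDeg_of_finSheaf (Y := C.toScheme) (f := pullback.snd G.s (C.ι ≫ Z.subschemeι))
          (r + 1) ?_ ?_).1
        all_goals intro k hk; rw [← FittX.finSheaf_comap (IsPullback.of_hasPullback G.s (C.ι ≫ Z.subschemeι)),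
          Scheme.IdealSheafData.comap_comp]
        · rw [show (FittX.finSheaf G.s k).comap Z.subschemeι = ⊥ from eq_bot_iff.2
            ((Scheme.IdealSheafData.comap_mono _ (FittX.finSheaf_mono G.s (Nat.lt_succ_iff.1 hk))).trans
              ((Scheme.IdealSheafData.map_gc _).l_le (by
                rw [Scheme.IdealSheafData.map_bot, Scheme.IdealSheafData.ker_subschemeι]))),
            Scheme.IdealSheafData.comap_bot]
        · rw [← Scheme.IdealSheafData.support_eq_bot_iff, Scheme.IdealSheafData.support_comap,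
            Scheme.IdealSheafData.support_comap]
          refine SetLike.coe_injective (Set.eq_empty_of_forall_notMem fun z hz => ?_)
          exact z.2 (support_antitone G hk hz)
      have hpb : IsPullback (pullback.fst G.s (C.ι ≫ Z.subschemeι)) (pullback.snd G.s (C.ι ≫ Z.subschemeι))
        G.s (C.ι ≫ Z.subschemeι) := IsPullback.of_hasPullback _ _
      have hb : IsPullback (pullback.lift (pullback.fst G.s μ) (pullback.snd G.s μ ≫ q')
          (by rw [Category.assoc, hq', pullback.condition])) (pullback.snd G.s μ)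
          (pullback.snd G.s (C.ι ≫ Z.subschemeι)) q' := by
        refine IsPullback.of_right ?_ (pullback.lift_snd _ _ _) hpb
        rw [pullback.lift_fst, hq']
        exact IsPullback.of_hasPullback G.s μ
      obtain ⟨h1, h2, h3⟩ := hstrat
      exact ⟨MorphismProperty.of_isPullback hb h1, MorphismProperty.of_isPullback hb h2,
        MorphismProperty.of_isPullback hb h3⟩
    have loc : ∀ (P : MorphismProperty Scheme.{u}) [IsZariskiLocalAtTarget P] [P.RespectsIso],
        (∀ r, P (pullback.snd G.s ((O r).ι ≫ ι'))) → P (pullback.snd G.s ι') := by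
      intro P _ _ h
      rw [IsZariskiLocalAtTarget.iff_of_iSup_eq_top (P := P) O hsup]
      intro r
      have hb := (isPullback_morphismRestrict (pullback.snd G.s ι') (O r)).flip.paste_horiz
        (IsPullback.of_hasPullback G.s ι')
      have := h r
      rwa [← hb.isoPullback_hom_snd, P.cancel_left_of_respectsIso]
    have hs' : Mor2.IsFinLocFree (pullback.snd G.s ι') :=
      ⟨loc @IsFinite fun r => (hkey r).1, loc @Flat fun r => (hkey r).2.1,
        loc @LocallyOfFinitePresentation fun r => (hkey r).2.2⟩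
    refine ⟨hs', ?_⟩
    haveI : IsIso G.i := ⟨G.i, GrpdLib.i_i G, GrpdLib.i_i G⟩
    let e : pullback G.t ι' ⟶ pullback G.s ι' :=
      pullback.map _ _ _ _ G.i (𝟙 _) (𝟙 _) (by rw [Category.comp_id, G.i_s]) (by simp)
    have he : e ≫ pullback.snd G.s ι' = pullback.snd G.t ι' := by
      rw [pullback.lift_snd, Category.comp_id]
    obtain ⟨h1, h2, h3⟩ := hs'
    refine ⟨?_, ?_, ?_⟩ <;> rw [← he] <;> infer_instance

end Groth.Agent.GrpdThick
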